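import Cfsg.Agent.H875.KB.Dich
import Cfsg.Agent.H418.KB.Fus
import Cfsg.Agent.H418.KB.Orth
import Cfsg.Agent.H200.RowOrthA

/-!
# The orthogonal groups in even dimension (S4822, helper875)

* `exists_XY` : a noncyclic `p`-group of isometries gives `XY Q p x y` (helper418's minimal pair);
* `exists_R` : a group isomorphic to `E Q / Z` without cyclic Sylow `p`-subgroups gives a noncyclic `p`-group of isometries;
* `even_final` : the two cases.
-/

set_option autoImplicit false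

open QuadraticMap Module Cfsg Cfsg.Agent.Blocks.Basic Cfsg.Agent.Blocks.Local Subgroup
open Cfsg.Agent.LieClassical.OrthCore Cfsg.Agent.LieClassical.OrthTrans Cfsg.Agent.H418.KB

namespace Cfsg.Agent.H875.KB

universe u

variable {F V : Type*} [Field F] [AddCommGroup V] [Module F V] {Q : QuadraticForm F V}

/-- the conjugation statement (P4) for the isometries of order `p` of `Q` -/
def CQ (Q : QuadraticForm F V) (p q : ℕ) : Prop := ∀ y ∈ O Q, y ^ p = 1 →
  (∃ c ∈ O Q, c * y * c⁻¹ = y ^ q ∧ ∀ v, y v = v → c v = v) ∧ (∃ c ∈ O Q, c * y * c⁻¹ = y⁻¹ ∧ ∀ v, y v = v → c v = v)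

theorem exists_XY [Fintype F] (hG : Good Q) {p : ℕ} [hp : Fact p.Prime] (hp2 : p ≠ 2) (hpF : (p : F) ≠ 0)
    (hC : CQ Q p (Fintype.card F)) {R : Subgroup (V ≃ₗ[F] V)} (hRO : R ≤ O Q) (hR : IsPGroup p R) (hnc : ¬ IsCyclic R) :
    ∃ x y, XY Q p x y := by
  have hfd : FiniteDimensional F V := Module.finite_of_finrank_pos (by have := hG.dim; omega)
  have hne : NeZero (p : F) := ⟨hpF⟩
  have hpq : ¬ p ∣ Fintype.card F := Cfsg.Agent.H862.T5.OBlock.not_dvd_card hpF
  have h2p : 2 < p := by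
    have := hp.out.two_le
    omega
  have hp0 : NeZero p := ⟨hp.out.ne_zero⟩
  have hζ := IsCyclotomicExtension.zeta_spec p F (CyclotomicField p F)
  have hfdK : FiniteDimensional F (CyclotomicField p F) := IsCyclotomicExtension.finiteDimensional {p} F _
  obtain ⟨x, y, hxy, hcyc⟩ := exists_min_pair hp.out h2p hpq hζ (spl_O hG.nondeg) hRO hR hnc
  refine ⟨x, y, hxy.mx, hxy.ox, hxy.nx, hxy.my, hxy.oy, hxy.ny, hxy.triv, fun g _ i hg => ?_, hcyc⟩
  obtain ⟨hq, hi⟩ := hC y hxy.my hxy.oy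
  obtain ⟨c, hc, hcf, hcy⟩ := fus_of hp.out hpq hζ hxy hq hi hg
  exact ⟨c, hc, fun v => hcf _ (hxy.triv v), hcy⟩

theorem exists_R [Finite V] (hG : Good Q) {p : ℕ} [hp : Fact p.Prime] (hp2 : p ≠ 2) {S : Type u} [Group S] [Finite S]
    (e : S ≃* (↥(E Q) ⧸ Subgroup.center ↥(E Q))) (hNC : ∀ P : Sylow p S, ¬ IsCyclic (P : Subgroup S)) :
    ∃ R : Subgroup (V ≃ₗ[F] V), R ≤ O Q ∧ IsPGroup p R ∧ ¬ IsCyclic R := by
  have hfin : Finite ↥(E Q) := Cfsg.Agent.H200.RowOrth.finite_E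
  obtain ⟨P⟩ : Nonempty (Sylow p S) := inferInstance
  obtain ⟨P₁, hP₁, hmap, -⟩ := Cfsg.Agent.SigZeroU5.exists_lift (Subgroup.center ↥(E Q)) le_rfl
    (Cfsg.Agent.H200.RowOrth.not_dvd_center hG hp2) (P.2.map e.toMonoidHom)
  refine ⟨P₁.map (E Q).subtype, ?_, hP₁.map _, fun hc => hNC P ?_⟩
  · rintro _ ⟨g, -, rfl⟩
    exact E_le_O g.2
  · have h1 : IsCyclic ↥P₁ :=
      isCyclic_of_injective ((P₁.equivMapOfInjective _ (E Q).subtype_injective).toMonoidHom) (MulEquiv.injective _)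
    have h2 : IsCyclic ↥(P₁.map (QuotientGroup.mk' (Subgroup.center ↥(E Q)))) :=
      isCyclic_of_surjective _ (MonoidHom.subgroupMap_surjective (QuotientGroup.mk' (Subgroup.center ↥(E Q))) P₁)
    rw [hmap] at h2
    exact isCyclic_of_injective (((P : Subgroup S).equivMapOfInjective e.toMonoidHom e.injective).toMonoidHom)
      (MulEquiv.injective _)

/-- **even dimension: the two cases** -/
theorem even_final [Fintype F] (hG : Good Q) (hev : Even (finrank F V)) {p : ℕ} [hp : Fact p.Prime] (hp2 : p ≠ 2)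
    (hpF : (p : F) ≠ 0) (hC : CQ Q p (Fintype.card F)) {M : Ideal AlgInt} (hM : IsPModular p M) {S : Type u} [Group S]
    [Finite S] (e : S ≃* (↥(E Q) ⧸ Subgroup.center ↥(E Q))) (hNC : ∀ P : Sylow p S, ¬ IsCyclic (P : Subgroup S)) :
    p ≤ Nat.card (principalBlock M S) ∨
      (p + 3 ≤ 2 * Nat.card (principalBlock M S) ∧ ∃ z ∈ O Q, z ^ p = 1 ∧ ∀ v, z v = v → v = 0) := by
  have hfd : FiniteDimensional F V := Module.finite_of_finrank_pos (by have := hG.dim; omega)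
  have hVf : Finite V := Module.finite_of_finite F
  obtain ⟨R, hRO, hR, hnc⟩ := exists_R hG hp2 e hNC
  obtain ⟨x, y, hxy⟩ := exists_XY hG hp2 hpF hC hRO hR hnc
  rw [Cfsg.Agent.H590.RankSum.card_congr e]
  exact dich' hG hev hp2 hpF hM _ (Cfsg.Agent.H200.RowOrth.not_dvd_center hG hp2) hxy

end Cfsg.Agent.H875.KB
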