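import Cfsg.Agent.LieClassical.OrthFinite

/-!
# Correction into `E Q` by isometries supported on a subspace (S4822, helper875)

* `supp Q U` : isometries which are the identity on `Uᗮ`;
* `exists_supp` : if `Q` takes all nonzero values on `U`, then every isometry `g` has `s ∈ supp Q U` with `s g ∈ E Q`;
* `universal` : a nondegenerate subspace of dimension at least two over a finite field takes all values;
* `sq_mem_E`, `mem_E_of_pow` : squares, and elements of odd order, lie in `E Q`;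
* `comm_of_supp` : an isometry `s` supported on `U` commutes with an isometry which is trivial on `U`.
-/

set_option autoImplicit false

open QuadraticMap Module
open Cfsg.Agent.LieClassical.OrthCore Cfsg.Agent.LieClassical.OrthTrans

namespace Cfsg.Agent.H875.KB

variable {F V : Type*} [Field F] [AddCommGroup V] [Module F V] {Q : QuadraticForm F V}

/-- isometries which are trivial on the orthogonal complement of `U` -/
def supp (Q : QuadraticForm F V) (U : Submodule F V) : Subgroup (V ≃ₗ[F] V) where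
  carrier := {g | g ∈ O Q ∧ ∀ v, (∀ u ∈ U, polar Q u v = 0) → g v = v}
  mul_mem' {a b} ha hb := ⟨(O Q).mul_mem ha.1 hb.1, fun v hv => by
    rw [LinearEquiv.mul_apply, hb.2 v hv, ha.2 v hv]⟩
  one_mem' := ⟨(O Q).one_mem, fun _ _ => rfl⟩
  inv_mem' {a} ha := ⟨(O Q).inv_mem ha.1, fun v hv => by
    conv_lhs => rw [← ha.2 v hv]
    exact LinearEquiv.symm_apply_apply a v⟩

theorem refl_mem_supp {U : Submodule F V} {u : V} (hu : u ∈ U) (hQu : Q u ≠ 0) : refl Q u hQu ∈ supp Q U := by
  refine ⟨refl_mem_O hQu, fun v hv => ?_⟩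
  rw [refl_apply, hv u hu]
  simp

/-- every isometry can be corrected into `E Q` -/
theorem exists_supp (hG : Good Q) {U : Submodule F V} (hU : ∀ c : F, c ≠ 0 → ∃ u ∈ U, Q u = c) {g : V ≃ₗ[F] V}
    (hg : g ∈ O Q) : ∃ s ∈ supp Q U, s * g ∈ E Q := by
  have : FiniteDimensional F V := Module.finite_of_finrank_pos (by have := hG.dim; omega)
  rw [O_eq_closure hG.nondeg] at hg
  induction hg using Subgroup.closure_induction with
  | mem x hx =>
    rcases hx with ⟨v, hv, rfl⟩ | ⟨u, w, hu, hw, rfl⟩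
    · obtain ⟨u, huU, hu⟩ := hU (Q v) hv
      have hu0 : Q u ≠ 0 := by rw [hu]; exact hv
      exact ⟨refl Q u hu0, refl_mem_supp huU hu0, hG.refl_mul_refl_mem hv hu0 hu.symm⟩
    · exact ⟨1, one_mem _, by rw [one_mul]; exact siegel_mem_E hu hw⟩
  | one => exact ⟨1, one_mem _, by rw [one_mul]; exact one_mem _⟩
  | mul x y _ _ hx hy =>
    obtain ⟨s, hs, hsx⟩ := hx
    obtain ⟨t, ht, hty⟩ := hy
    refine ⟨t * s, mul_mem ht hs, ?_⟩
    have h1 : t * s * (x * y) = (t * (s * x) * t⁻¹) * (t * y) := by group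
    rw [h1]
    exact (E Q).mul_mem (conj_mem_E ht.1 hsx) hty
  | inv x _ hx =>
    obtain ⟨s, hs, hsx⟩ := hx
    refine ⟨s⁻¹, inv_mem hs, ?_⟩
    have h1 : s⁻¹ * x⁻¹ = s⁻¹ * (s * x)⁻¹ * (s⁻¹)⁻¹ := by group
    rw [h1]
    exact conj_mem_E (inv_mem hs.1) ((E Q).inv_mem hsx)

/-- squares of isometries lie in `E Q` -/
theorem sq_mem_E (hG : Good Q) {g : V ≃ₗ[F] V} (hg : g ∈ O Q) : g * g ∈ E Q := by
  have : FiniteDimensional F V := Module.finite_of_finrank_pos (by have := hG.dim; omega)
  have hcl := O_eq_closure hG.nondeg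
  have hg' := hg
  rw [hcl] at hg'
  induction hg' using Subgroup.closure_induction with
  | mem x hx =>
    rcases hx with ⟨v, hv, rfl⟩ | ⟨u, w, hu, hw, rfl⟩
    · rw [refl_mul_self]; exact one_mem _
    · exact mul_mem (siegel_mem_E hu hw) (siegel_mem_E hu hw)
  | one => rw [mul_one]; exact one_mem _
  | mul x y hx' hy' hx hy =>
    have hxO : x ∈ O Q := by rw [hcl]; exact hx'
    have hyO : y ∈ O Q := by rw [hcl]; exact hy'
    have h1 : x * y * (x * y) = (x * y * x⁻¹ * y⁻¹) * (y * (x * x) * y⁻¹) * (y * y) := by group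
    rw [h1]
    refine mul_mem (mul_mem ?_ (conj_mem_E hyO (hx hxO))) (hy hyO)
    rw [← hG.commutator_eq_E]
    exact Subgroup.commutator_mem_commutator hxO hyO
  | inv x hx' hx =>
    have hxO : x ∈ O Q := by rw [hcl]; exact hx'
    have h1 : x⁻¹ * x⁻¹ = (x * x)⁻¹ := by group
    rw [h1]
    exact inv_mem (hx hxO)

/-- isometries of odd order lie in `E Q` -/
theorem mem_E_of_pow (hG : Good Q) {g : V ≃ₗ[F] V} (hg : g ∈ O Q) {p : ℕ} (hp : Odd p) (h : g ^ p = 1) : g ∈ E Q := by
  obtain ⟨k, rfl⟩ := hp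
  have h1 : g = (g ^ (k + 1)) * (g ^ (k + 1)) := by
    rw [← pow_add, show k + 1 + (k + 1) = 2 * k + 1 + 1 by ring, pow_succ, h, one_mul]
  rw [h1]
  exact sq_mem_E hG (pow_mem hg _)

/-- a nondegenerate subspace of dimension at least two over a finite field takes all values -/
theorem universal [Finite F] {U : Submodule F V} (hU : 2 ≤ finrank F U)
    (hn : ∀ u ∈ U, (∀ v ∈ U, polar Q u v = 0) → u = 0) (c : F) : ∃ u ∈ U, Q u = c := by
  -- the form `Q u - c t ^ 2` on `U × F`
  let R : QuadraticForm F (V × F) := Q.comp (LinearMap.fst F V F) - c • (QuadraticMap.sq.comp (LinearMap.snd F V F))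
  have hR : ∀ w : V × F, R w = Q w.1 - c * (w.2 * w.2) := fun w => rfl
  have hfin : FiniteDimensional F U := Module.finite_of_finrank_pos (by omega)
  let W : Submodule F (V × F) := U.prod ⊤
  have hW : 3 ≤ finrank F W := by
    let e : (U × F) ≃ₗ[F] W :=
      { toFun := fun x => ⟨((x.1 : V), x.2), ⟨x.1.2, trivial⟩⟩
        map_add' := fun _ _ => rfl
        map_smul' := fun _ _ => rfl
        invFun := fun w => (⟨w.1.1, w.2.1⟩, w.1.2)
        left_inv := fun _ => rfl
        right_inv := fun _ => rfl }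
    rw [← e.finrank_eq, Module.finrank_prod, Module.finrank_self]
    omega
  obtain ⟨w, hw, hw0, hQw⟩ := Cfsg.Agent.LieClassical.OrthFinite.exists_sing_mem (Q := R) W hW
  have hwU : w.1 ∈ U := hw.1
  rw [hR, sub_eq_zero] at hQw
  by_cases ht : w.2 = 0
  · have hw1 : w.1 ≠ 0 := fun h => hw0 (Prod.ext h ht)
    have hs : Q w.1 = 0 := by rw [hQw, ht]; simp
    obtain ⟨y, hy, hwy⟩ : ∃ y ∈ U, polar Q w.1 y ≠ 0 := by
      by_contra hno
      push Not at hno
      exact hw1 (hn _ hwU hno)
    refine ⟨((c - Q y) / polar Q w.1 y) • w.1 + y, U.add_mem (U.smul_mem _ hwU) hy, ?_⟩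
    rw [Q_add, QuadraticMap.map_smul, hs, polar_smul_left, smul_eq_mul, smul_eq_mul, div_mul_cancel₀ _ hwy]
    ring
  · refine ⟨w.2⁻¹ • w.1, U.smul_mem _ hwU, ?_⟩
    rw [QuadraticMap.map_smul, hQw, smul_eq_mul]
    field_simp

/-- isometries with disjoint supports commute -/
theorem comm_of_supp (hQ : Nondeg Q) {U : Submodule F V} {s y : V ≃ₗ[F] V} (hs : s ∈ supp Q U) (hy : y ∈ O Q)
    (hyU : ∀ u ∈ U, y u = u) : s * y = y * s := by
  ext v
  rw [LinearEquiv.mul_apply, LinearEquiv.mul_apply]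
  -- `y v - v` is orthogonal to `U`
  have h1 : ∀ v, ∀ u ∈ U, polar Q u (y v - v) = 0 := by
    intro v u hu
    rw [polar_sub_right, sub_eq_zero]
    conv_lhs => rw [← hyU u hu]
    exact polar_map hy u v
  have h2 : s (y v) = s v + (y v - v) := by
    have h3 : s (y v - v) = y v - v := hs.2 _ (h1 v)
    rw [← h3, map_sub]
    abel
  -- `s v - v` is orthogonal to `[V, y]`
  have h4 : ∀ b, polar Q (s v - v) (y b - b) = 0 := by
    intro b
    have h5 : s (y b - b) = y b - b := hs.2 _ (h1 b)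
    rw [polar_sub_left, sub_eq_zero]
    conv_lhs => rw [← h5]
    exact polar_map hs.1 v _
  have h6 : y (s v - v) = s v - v := by
    rw [← sub_eq_zero]
    apply hQ
    intro b
    have h7 : b = y (y⁻¹ b) := (LinearEquiv.apply_symm_apply y b).symm
    rw [polar_sub_left, sub_eq_zero]
    conv_lhs => rw [h7, polar_map hy]
    have h8 := h4 (y⁻¹ b)
    rw [← h7, polar_sub_right, sub_eq_zero] at h8
    exact h8.symm
  rw [map_sub, sub_eq_sub_iff_add_eq_add] at h6
  rw [h2, ← add_sub_assoc, ← h6, add_sub_cancel_right]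

end Cfsg.Agent.H875.KB
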