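import Cfsg.Agent.H875.KB.Half
import Cfsg.Agent.H862.T5.OBlock

/-!
# The two cases for orthogonal groups in even dimension (S4822, helper875)

* `XY Q p x y` : the data of `even_core`, `half_core`;
* `dvd_card_sing` : an isometry of order `p` without fixed vectors: `p` divides the number of nonzero singular vectors;
* `dich'` : for even dimension either `p ≤ k(B₀)`, or `p + 3 ≤ 2 k(B₀)` and there is an isometry of order `p` without fixed vectors;
  `dich` : in the second case `p` divides the number of nonzero singular vectors.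
-/

set_option autoImplicit false

open QuadraticMap Module Cfsg Cfsg.Agent.Blocks.Basic Cfsg.Agent.Blocks.Local Subgroup
open Cfsg.Agent.LieClassical.OrthCore Cfsg.Agent.LieClassical.OrthTrans

namespace Cfsg.Agent.H875.KB

variable {F V : Type*} [Field F] [AddCommGroup V] [Module F V] {Q : QuadraticForm F V}

/-- commuting isometries of order `p`, `y` supported on `C_V(x)`; the fusion of `x`; cyclicity -/
structure XY (Q : QuadraticForm F V) (p : ℕ) (x y : V ≃ₗ[F] V) : Prop where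
  hx : x ∈ O Q
  hxp : x ^ p = 1
  hx1 : x ≠ 1
  hy : y ∈ O Q
  hyp : y ^ p = 1
  hy1 : y ≠ 1
  hyx : ∀ v, y (x v - v) = x v - v
  hfus : ∀ g ∈ O Q, ∀ i : ℕ, g * x * g⁻¹ = x ^ i → ∃ c ∈ O Q, (∀ v, c (x v - v) = x v - v) ∧ c * y * c⁻¹ = y ^ i
  hcyc : ∀ R : Subgroup (V ≃ₗ[F] V), R ≤ O Q → IsPGroup p R → (∀ g ∈ R, ∀ v, g (x v - v) = x v - v) → IsCyclic R

/-- the fusion in terms of two conjugating elements -/
theorem exists_fus {p q : ℕ} {x y c₁ c₂ : V ≃ₗ[F] V} (hyp : y ^ p = 1)
    (h1 : c₁ ∈ O Q) (h1x : ∀ v, c₁ (x v - v) = x v - v) (h1y : c₁ * y * c₁⁻¹ = y ^ q)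
    (h2 : c₂ ∈ O Q) (h2x : ∀ v, c₂ (x v - v) = x v - v) (h2y : c₂ * y * c₂⁻¹ = y⁻¹) {i : ℕ}
    (hi : ∃ j : ℕ, (i : ZMod p) = (q : ZMod p) ^ j ∨ (i : ZMod p) = -(q : ZMod p) ^ j) :
    ∃ c ∈ O Q, (∀ v, c (x v - v) = x v - v) ∧ c * y * c⁻¹ = y ^ i := by
  have hod : orderOf y ∣ p := orderOf_dvd_of_pow_eq_one hyp
  have key : ∀ a b : ℤ, ((a : ℤ) : ZMod p) = ((b : ℤ) : ZMod p) → y ^ a = y ^ b := by
    intro a b hab
    rw [← sub_eq_zero, ← Int.cast_sub, ZMod.intCast_zmod_eq_zero_iff_dvd] at hab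
    have h3 : y ^ (a - b) = 1 := by
      obtain ⟨k, hk⟩ := hab
      rw [hk, zpow_mul, zpow_natCast, hyp, one_zpow]
    rw [zpow_sub, mul_inv_eq_one] at h3
    exact h3
  have hpow : ∀ j : ℕ, c₁ ^ j * y * (c₁ ^ j)⁻¹ = y ^ (q ^ j) := by
    intro j
    induction j with
    | zero => simp
    | succ j ih =>
      have e : c₁ ^ (j + 1) * y * (c₁ ^ (j + 1))⁻¹ = c₁ * (c₁ ^ j * y * (c₁ ^ j)⁻¹) * c₁⁻¹ := by
        rw [pow_succ']
        group
      rw [e, ih, ← conj_pow, h1y, ← pow_mul, pow_succ, mul_comm]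
  have hfix : ∀ (j : ℕ) (v : V), (c₁ ^ j) (x v - v) = x v - v := by
    intro j v
    induction j with
    | zero => rfl
    | succ j ih => rw [pow_succ, LinearEquiv.mul_apply, h1x, ih]
  obtain ⟨j, hj | hj⟩ := hi
  · refine ⟨c₁ ^ j, pow_mem h1 _, hfix j, ?_⟩
    rw [hpow]
    have := key ((q ^ j : ℕ) : ℤ) ((i : ℕ) : ℤ) (by push_cast; exact hj.symm)
    rwa [zpow_natCast, zpow_natCast] at this
  · refine ⟨c₂ * c₁ ^ j, mul_mem h2 (pow_mem h1 _), fun v => ?_, ?_⟩
    · rw [LinearEquiv.mul_apply, hfix, h2x]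
    · have e : c₂ * c₁ ^ j * y * (c₂ * c₁ ^ j)⁻¹ = c₂ * (c₁ ^ j * y * (c₁ ^ j)⁻¹) * c₂⁻¹ := by group
      rw [e, hpow, ← conj_pow, h2y, inv_pow, ← zpow_natCast, ← zpow_natCast, ← zpow_neg]
      exact key _ _ (by push_cast; exact hj.symm)

variable {p : ℕ} {x y : V ≃ₗ[F] V}

/-- an element of odd prime order acting without fixed points on a finite set -/
theorem dvd_card_of_free {α : Type*} [Finite α] [hp : Fact p.Prime] (f : α → α) (hf : f^[p] = id)
    (h : ∀ a, f a ≠ a) : p ∣ Nat.card α := by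
  classical
  have := Fintype.ofFinite α
  let g : Function.End α := f
  have hg : ∀ n : ℕ, g ^ n = (f^[n] : α → α) := by
    intro n
    induction n with
    | zero => rfl
    | succ n ih =>
      rw [pow_succ, Function.iterate_succ, ih]
      rfl
  have h1 := Equiv.Perm.card_fixedPoints_modEq (f := g) (p := p) (n := 1) (by
    rw [pow_one, hg, hf]
    rfl)
  have h2 : Fintype.card (Function.fixedPoints g) = 0 := by
    rw [Fintype.card_eq_zero_iff]
    exact ⟨fun a => h a.1 a.2⟩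
  rw [h2] at h1
  rw [Nat.card_eq_fintype_card]
  exact (Nat.modEq_zero_iff_dvd).1 h1

section fin

variable [Finite F]

omit [Finite F] in
open Cfsg.Agent.H862.T5.OBase Cfsg.Agent.H862.T5.OBlock Cfsg.Agent.H951 Cfsg.Agent.H957.T5V
  Cfsg.Agent.H862.T5.OFrame Cfsg.Agent.H862.T5.OLinFour in
/-- the space of fixed vectors of an isometry of odd order has codimension even -/
theorem even_codim [FiniteDimensional F V] (hQ : Nondeg Q) [hp : Fact p.Prime] (hp2 : p ≠ 2) (hpF : (p : F) ≠ 0)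
    {z : V ≃ₗ[F] V} (hz : z ∈ O Q) (hzp : z ^ p = 1) :
    Even (finrank F V - finrank F (LinearMap.ker ((z : V →ₗ[F] V) - LinearMap.id))) := by
  have hB := frm_polar Q
  have hcmn : Nd (BB Q) (cm (en z)) := (isom_en hz).nd_cm hB hpF (en_pow_one hzp) (nd_top hQ)
  have h1 := even_finrank hz hp2 hpF hzp inv_cm hcmn le_rfl
  have h2 : cm (en z) = LinearMap.range ((z : V →ₗ[F] V) - LinearMap.id) := by
    ext v
    rw [mem_cm, LinearMap.mem_range]
    rfl
  have h3 := LinearMap.finrank_range_add_finrank_ker ((z : V →ₗ[F] V) - LinearMap.id)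
  rw [h2] at h1
  rw [← h3, Nat.add_sub_cancel]
  exact h1

omit [Finite F] in
/-- an isometry of order `p` without fixed vectors -/
theorem dvd_card_sing [Finite V] [hp : Fact p.Prime] {z : V ≃ₗ[F] V} (hz : z ∈ O Q) (hzp : z ^ p = 1)
    (hfree : ∀ v, z v = v → v = 0) : p ∣ Nat.card {v : V // v ≠ 0 ∧ Q v = 0} := by
  let f : {v : V // v ≠ 0 ∧ Q v = 0} → {v : V // v ≠ 0 ∧ Q v = 0} := fun v =>
    ⟨z v.1, fun h0 => v.2.1 ((LinearEquiv.map_eq_zero_iff z).1 h0), by
      rw [mem_O.1 hz]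
      exact v.2.2⟩
  refine dvd_card_of_free (p := p) f ?_ fun a ha => ?_
  · funext a
    apply Subtype.ext
    have h3 : ∀ n : ℕ, (f^[n] a).1 = (z ^ n) a.1 := by
      intro n
      induction n with
      | zero => rfl
      | succ n ih =>
        rw [Function.iterate_succ_apply', pow_succ', LinearEquiv.mul_apply, ← ih]
    rw [h3, hzp]
    rfl
  · exact a.2.1 (hfree a.1 (congrArg Subtype.val ha))

/-- **the two cases** -/
theorem dich' (hG : Good Q) (hev : Even (finrank F V)) [hp : Fact p.Prime] (hp2 : p ≠ 2) (hpF : (p : F) ≠ 0)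
    {M : Ideal AlgInt} (hM : IsPModular p M) (N : Subgroup ↥(E Q)) [N.Normal] (hN : ¬ p ∣ Nat.card N)
    (h : XY Q p x y) :
    p ≤ Nat.card (principalBlock M (↥(E Q) ⧸ N)) ∨
      (p + 3 ≤ 2 * Nat.card (principalBlock M (↥(E Q) ⧸ N)) ∧ ∃ z ∈ O Q, z ^ p = 1 ∧ ∀ v, z v = v → v = 0) := by
  have hfd : FiniteDimensional F V := Module.finite_of_finrank_pos (by have := hG.dim; omega)
  have hVf : Finite V := Module.finite_of_finite F
  have hcomm : y * x = x * y := comm_of_triv hG.nondeg h.hx h.hy h.hyx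
  have hzO : x * y ∈ O Q := mul_mem h.hx h.hy
  have hzp : (x * y) ^ p = 1 := by
    rw [(show Commute x y from hcomm.symm).mul_pow, h.hxp, h.hyp, one_mul]
  set U : Submodule F V := LinearMap.ker (((x * y : V ≃ₗ[F] V) : V →ₗ[F] V) - LinearMap.id) with hU
  have hUmem : ∀ v, v ∈ U ↔ (x * y) v = v := fun v => by
    rw [hU, LinearMap.mem_ker, LinearMap.sub_apply, sub_eq_zero]
    rfl
  -- `x` and `y` are trivial on `U`
  have hUxy : ∀ v ∈ U, x v = v ∧ y v = v := by
    intro v hv
    rw [hUmem] at hv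
    have ha := fix_avg h.hxp v
    have hyb : y (v - avg p x v) = v - avg p x v := by
      have : v - avg p x v ∈ LinearMap.ker ((y : V →ₗ[F] V) - LinearMap.id) := by
        refine sub_avg_mem hpF _ (fun w => ?_) v
        rw [LinearMap.mem_ker, LinearMap.sub_apply, sub_eq_zero]
        exact h.hyx w
      rw [LinearMap.mem_ker, LinearMap.sub_apply, sub_eq_zero] at this
      exact this
    have hxv : x v = v := by
      -- `y v = y a + b` with `a = avg v`
      have e1 : avg p x (y v) = y (avg p x v) := (avg_comm hcomm v).symm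
      have e2 : y v = y (avg p x v) + (v - avg p x v) := by
        conv_lhs => rw [← add_sub_cancel (avg p x v) v, map_add, hyb]
      have e3 : x (y (avg p x v)) = y (avg p x v) := by
        rw [← LinearEquiv.mul_apply, ← hcomm, LinearEquiv.mul_apply, ha]
      have e4 : x (y v) = v := hv
      rw [e2, map_add, e3, map_sub, ha] at e4
      -- apply `avg`
      have e5 : avg p x v = y (avg p x v) := by
        have e6 := congrArg (avg p x) e4
        rw [map_add, map_sub, avg_avg hpF h.hxp, ← avg_comm (p := p) (x := x) (g := x) rfl v, ha, sub_self, add_zero,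
          ← avg_comm hcomm, avg_avg hpF h.hxp] at e6
        exact e6.symm
      rw [← e5] at e4
      rwa [add_sub_cancel] at e4
    refine ⟨hxv, ?_⟩
    have e7 : x (y v) = v := hv
    have e8 : x (y v) = y v := by
      rw [← LinearEquiv.mul_apply, ← hcomm, LinearEquiv.mul_apply, hxv]
    rw [← e8, e7]
  -- `U` is nondegenerate
  have hUn : ∀ u ∈ U, (∀ v ∈ U, polar Q u v = 0) → u = 0 := by
    intro u hu h0
    apply hG.nondeg
    intro v
    have h1 : polar Q u (v - avg p (x * y) v) = 0 := polar_avg hpF hzO ((hUmem u).1 hu) v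
    have h2 : polar Q u (avg p (x * y) v) = 0 := h0 _ ((hUmem _).2 (fix_avg hzp v))
    rw [polar_sub_right, h2, sub_zero] at h1
    exact h1
  have hcod := even_codim hG.nondeg hp2 hpF hzO hzp
  have hle : finrank F U ≤ finrank F V := Submodule.finrank_le U
  rcases Nat.lt_or_ge (finrank F U) 2 with hd | hd
  · right
    refine ⟨half_core hG hp2 hpF hM N hN h.hx h.hxp h.hx1 h.hy h.hyp h.hy1 h.hyx h.hfus h.hcyc, ?_⟩
    have hU0 : finrank F U = 0 := by
      rw [← hU, Nat.even_sub hle] at hcod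
      have h1 : Even (finrank F U) := hcod.1 hev
      interval_cases finrank F U
      · rfl
      · exact absurd h1 (by decide)
    have hU1 : U = ⊥ := Submodule.finrank_eq_zero.1 hU0
    refine ⟨x * y, hzO, hzp, fun v hv => ?_⟩
    have h1 := (hUmem v).2 hv
    rwa [hU1, Submodule.mem_bot] at h1
  · left
    exact even_core hG hp2 hpF hM N hN h.hx h.hxp h.hx1 h.hy h.hyp h.hy1 h.hyx h.hfus h.hcyc (fun u hu => (hUxy u hu).1)
      (fun u hu => (hUxy u hu).2) fun c _ => universal hd hUn c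

/-- the two cases, with the number of singular vectors -/
theorem dich (hG : Good Q) (hev : Even (finrank F V)) [hp : Fact p.Prime] (hp2 : p ≠ 2) (hpF : (p : F) ≠ 0)
    {M : Ideal AlgInt} (hM : IsPModular p M) (N : Subgroup ↥(E Q)) [N.Normal] (hN : ¬ p ∣ Nat.card N)
    (h : XY Q p x y) :
    p ≤ Nat.card (principalBlock M (↥(E Q) ⧸ N)) ∨
      (p + 3 ≤ 2 * Nat.card (principalBlock M (↥(E Q) ⧸ N)) ∧ p ∣ Nat.card {v : V // v ≠ 0 ∧ Q v = 0}) := by
  have hfd : FiniteDimensional F V := Module.finite_of_finrank_pos (by have := hG.dim; omega)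
  have hVf : Finite V := Module.finite_of_finite F
  rcases dich' hG hev hp2 hpF hM N hN h with h1 | ⟨h1, z, hz, hzp, hfree⟩
  · exact Or.inl h1
  · exact Or.inr ⟨h1, dvd_card_sing hz hzp hfree⟩

end fin

end Cfsg.Agent.H875.KB
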