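import Cfsg.Agent.H875.KB.Gen
import Cfsg.Agent.H734.KB.Exp

/-!
# The criterion `p ≤ k(B₀)` for orthogonal groups (S4822, helper875)

* `avg p x` : the projection to the fixed space of `x`, `x ^ p = 1`;
* `splitH` : the homomorphism `C(z) → GL(V)`, `g ↦ g` on `C_V(z)`, `1` on `[V, z]`;
* `even_core` : `x`, `y` commuting isometries of order `p`, `y` trivial on `[V, x]`, with the conditions on the fusion of `x`, on the
  `p`-subgroups supported on `C_V(x)`, and with a subspace `U` of `C_V(x) ∩ C_V(y)` on which `Q` takes all values: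
  `p ≤ k(B₀(E(Q)/N))`.
-/

set_option autoImplicit false

open QuadraticMap Module Cfsg Cfsg.Agent.Blocks.Basic Cfsg.Agent.Blocks.Local Subgroup
open Cfsg.Agent.LieClassical.OrthCore Cfsg.Agent.LieClassical.OrthTrans

namespace Cfsg.Agent.H875.KB

section avg

variable {F V : Type*} [Field F] [AddCommGroup V] [Module F V] {Q : QuadraticForm F V}

/-- the average of the powers -/
noncomputable def avg (p : ℕ) (x : V ≃ₗ[F] V) : Module.End F V :=
  (p : F)⁻¹ • ∑ k ∈ Finset.range p, (((x ^ k : V ≃ₗ[F] V) : V →ₗ[F] V))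

theorem avg_apply (p : ℕ) (x : V ≃ₗ[F] V) (v : V) : avg p x v = (p : F)⁻¹ • ∑ k ∈ Finset.range p, (x ^ k) v := by
  rw [avg, LinearMap.smul_apply, LinearMap.sum_apply]
  rfl

theorem pow_fix {x : V ≃ₗ[F] V} {v : V} (h : x v = v) (k : ℕ) : (x ^ k) v = v := by
  induction k with
  | zero => rfl
  | succ k ih => rw [pow_succ, LinearEquiv.mul_apply, h, ih]

theorem avg_of_fix {p : ℕ} (hpF : (p : F) ≠ 0) {x : V ≃ₗ[F] V} {v : V} (h : x v = v) : avg p x v = v := by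
  rw [avg_apply, Finset.sum_congr rfl (fun k _ => pow_fix h k), Finset.sum_const, Finset.card_range,
    ← Nat.cast_smul_eq_nsmul F, smul_smul, inv_mul_cancel₀ hpF, one_smul]

theorem fix_avg {p : ℕ} {x : V ≃ₗ[F] V} (hx : x ^ p = 1) (v : V) : x (avg p x v) = avg p x v := by
  rw [avg_apply, map_smul, map_sum]
  congr 1
  have h3 : ∀ i, x ((x ^ i) v) = (x ^ (i + 1)) v := fun i => by rw [pow_succ', LinearEquiv.mul_apply]
  simp only [h3]
  have h4 := Finset.sum_range_succ' (fun i => (x ^ i) v) p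
  have h5 := Finset.sum_range_succ (fun i => (x ^ i) v) p
  rw [h5, hx, pow_zero] at h4
  exact (add_right_cancel h4).symm

theorem avg_avg {p : ℕ} (hpF : (p : F) ≠ 0) {x : V ≃ₗ[F] V} (hx : x ^ p = 1) (v : V) :
    avg p x (avg p x v) = avg p x v := avg_of_fix hpF (fix_avg hx v)

theorem avg_comm {p : ℕ} {x g : V ≃ₗ[F] V} (hg : g * x = x * g) (v : V) : g (avg p x v) = avg p x (g v) := by
  rw [avg_apply, avg_apply, map_smul, map_sum]
  congr 1
  refine Finset.sum_congr rfl fun k _ => ?_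
  have h : Commute g (x ^ k) := (show Commute g x from hg).pow_right k
  exact LinearEquiv.congr_fun h.eq v

theorem avg_sub {p : ℕ} {x : V ≃ₗ[F] V} (hx : x ^ p = 1) (v : V) : avg p x (x v - v) = 0 := by
  rw [map_sub, ← avg_comm (p := p) (x := x) (g := x) rfl, fix_avg hx, sub_self]

/-- an additive predicate closed under scalars which holds on `[V, x]` holds for `v - avg v` -/
theorem sub_avg_mem {p : ℕ} (hpF : (p : F) ≠ 0) {x : V ≃ₗ[F] V} (W : Submodule F V) (hW : ∀ v, x v - v ∈ W) (v : V) :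
    v - avg p x v ∈ W := by
  have h1 : ∀ k : ℕ, (x ^ k) v - v ∈ W := by
    intro k
    induction k with
    | zero => simp
    | succ k ih =>
      have h2 : (x ^ (k + 1)) v - v = (x ((x ^ k) v) - (x ^ k) v) + ((x ^ k) v - v) := by
        rw [pow_succ', LinearEquiv.mul_apply]
        abel
      rw [h2]
      exact W.add_mem (hW _) ih
  have h3 : v - avg p x v = -((p : F)⁻¹ • ∑ k ∈ Finset.range p, ((x ^ k) v - v)) := by
    rw [avg_apply, Finset.sum_sub_distrib, Finset.sum_const, Finset.card_range, smul_sub, ← Nat.cast_smul_eq_nsmul F,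
      smul_smul, inv_mul_cancel₀ hpF, one_smul]
    abel
  rw [h3]
  exact W.neg_mem (W.smul_mem _ (W.sum_mem fun k _ => h1 k))

theorem polar_avg {p : ℕ} (hpF : (p : F) ≠ 0) {x : V ≃ₗ[F] V} (hx : x ∈ O Q) {a : V} (ha : x a = a) (b : V) :
    polar Q a (b - avg p x b) = 0 := by
  have h : b - avg p x b ∈ LinearMap.ker (polarBilin Q a) := by
    refine sub_avg_mem hpF _ (fun v => ?_) b
    rw [LinearMap.mem_ker, polarBilin_apply_apply, polar_sub_right, sub_eq_zero]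
    conv_lhs => rw [← ha]
    exact polar_map hx a v
  exact h

end avg

section split

variable {F V : Type*} [Field F] [AddCommGroup V] [Module F V] {Q : QuadraticForm F V} {G : Subgroup (V ≃ₗ[F] V)}

theorem comm_of_cent {z : ↥G} (g : ↥(centralizer ({z} : Set ↥G))) :
    ((g : ↥G) : V ≃ₗ[F] V) * (z : V ≃ₗ[F] V) = (z : V ≃ₗ[F] V) * ((g : ↥G) : V ≃ₗ[F] V) := by
  have h := mem_centralizer_singleton_iff.1 g.2
  exact congrArg (fun y : ↥G => (y : V ≃ₗ[F] V)) h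

/-- `g` on `C_V(z)`, `1` on `[V, z]` -/
noncomputable def splitE {p : ℕ} (hpF : (p : F) ≠ 0) (z : ↥G) (hz : (z : V ≃ₗ[F] V) ^ p = 1) :
    ↥(centralizer ({z} : Set ↥G)) →* Module.End F V where
  toFun g := (((g : ↥G) : V ≃ₗ[F] V) : V →ₗ[F] V) ∘ₗ avg p (z : V ≃ₗ[F] V) + (LinearMap.id - avg p (z : V ≃ₗ[F] V))
  map_one' := by
    refine LinearMap.ext fun v => ?_
    change avg p (z : V ≃ₗ[F] V) v + (v - avg p (z : V ≃ₗ[F] V) v) = v
    abel
  map_mul' g h := by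
    refine LinearMap.ext fun v => ?_
    change ((g : ↥G) : V ≃ₗ[F] V) (((h : ↥G) : V ≃ₗ[F] V) (avg p (z : V ≃ₗ[F] V) v)) + (v - avg p (z : V ≃ₗ[F] V) v) =
      ((g : ↥G) : V ≃ₗ[F] V) (avg p (z : V ≃ₗ[F] V) (((h : ↥G) : V ≃ₗ[F] V) (avg p (z : V ≃ₗ[F] V) v) +
        (v - avg p (z : V ≃ₗ[F] V) v))) + ((((h : ↥G) : V ≃ₗ[F] V) (avg p (z : V ≃ₗ[F] V) v) +
        (v - avg p (z : V ≃ₗ[F] V) v)) - avg p (z : V ≃ₗ[F] V) (((h : ↥G) : V ≃ₗ[F] V) (avg p (z : V ≃ₗ[F] V) v) +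
        (v - avg p (z : V ≃ₗ[F] V) v)))
    have h1 : avg p (z : V ≃ₗ[F] V) (((h : ↥G) : V ≃ₗ[F] V) (avg p (z : V ≃ₗ[F] V) v) +
        (v - avg p (z : V ≃ₗ[F] V) v)) = ((h : ↥G) : V ≃ₗ[F] V) (avg p (z : V ≃ₗ[F] V) v) := by
      rw [map_add, map_sub, avg_avg hpF hz, sub_self, add_zero, ← avg_comm (comm_of_cent h), avg_avg hpF hz]
    rw [h1]
    abel

/-- as a homomorphism to `GL(V)` -/
noncomputable def splitH {p : ℕ} (hpF : (p : F) ≠ 0) (z : ↥G) (hz : (z : V ≃ₗ[F] V) ^ p = 1) :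
    ↥(centralizer ({z} : Set ↥G)) →* (V ≃ₗ[F] V) :=
  (LinearMap.GeneralLinearGroup.generalLinearEquiv F V).toMonoidHom.comp (splitE hpF z hz).toHomUnits

theorem splitH_apply {p : ℕ} (hpF : (p : F) ≠ 0) (z : ↥G) (hz : (z : V ≃ₗ[F] V) ^ p = 1)
    (g : ↥(centralizer ({z} : Set ↥G))) (v : V) :
    splitH hpF z hz g v = ((g : ↥G) : V ≃ₗ[F] V) (avg p (z : V ≃ₗ[F] V) v) + (v - avg p (z : V ≃ₗ[F] V) v) := rfl

theorem splitH_sub {p : ℕ} (hpF : (p : F) ≠ 0) (z : ↥G) (hz : (z : V ≃ₗ[F] V) ^ p = 1)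
    (g : ↥(centralizer ({z} : Set ↥G))) (v : V) :
    splitH hpF z hz g ((z : V ≃ₗ[F] V) v - v) = (z : V ≃ₗ[F] V) v - v := by
  rw [splitH_apply, avg_sub hz, map_zero, zero_add, sub_zero]

theorem splitH_mem_O {p : ℕ} (hpF : (p : F) ≠ 0) (hG : G ≤ O Q) (z : ↥G) (hz : (z : V ≃ₗ[F] V) ^ p = 1)
    (g : ↥(centralizer ({z} : Set ↥G))) : splitH hpF z hz g ∈ O Q := by
  intro v
  rw [splitH_apply, Q_add, mem_O.1 (hG (g : ↥G).2)]
  have h1 : (z : V ≃ₗ[F] V) (((g : ↥G) : V ≃ₗ[F] V) (avg p (z : V ≃ₗ[F] V) v)) =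
      ((g : ↥G) : V ≃ₗ[F] V) (avg p (z : V ≃ₗ[F] V) v) := by
    rw [← LinearEquiv.mul_apply, ← comm_of_cent, LinearEquiv.mul_apply, fix_avg hz]
  rw [polar_avg hpF (hG z.2) h1, ← polar_avg hpF (hG z.2) (fix_avg hz v) v, ← Q_add]
  congr 1
  abel

/-- an isometry commuting with `z` and trivial on `[V, z]` is its own image -/
theorem splitH_eq {p : ℕ} (hpF : (p : F) ≠ 0) (z : ↥G) (hz : (z : V ≃ₗ[F] V) ^ p = 1)
    (g : ↥(centralizer ({z} : Set ↥G)))
    (hg : ∀ v, ((g : ↥G) : V ≃ₗ[F] V) ((z : V ≃ₗ[F] V) v - v) = (z : V ≃ₗ[F] V) v - v) :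
    splitH hpF z hz g = ((g : ↥G) : V ≃ₗ[F] V) := by
  ext v
  rw [splitH_apply]
  have h : v - avg p (z : V ≃ₗ[F] V) v ∈
      LinearMap.ker ((((g : ↥G) : V ≃ₗ[F] V) : V →ₗ[F] V) - LinearMap.id) := by
    refine sub_avg_mem hpF _ (fun w => ?_) v
    rw [LinearMap.mem_ker, LinearMap.sub_apply, sub_eq_zero]
    exact hg w
  rw [LinearMap.mem_ker, LinearMap.sub_apply, sub_eq_zero] at h
  have h' : ((g : ↥G) : V ≃ₗ[F] V) (v - avg p (z : V ≃ₗ[F] V) v) = v - avg p (z : V ≃ₗ[F] V) v := h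
  conv_lhs => rw [← h']
  rw [← map_add]
  congr 1
  abel

end split

section core

variable {F V : Type*} [Field F] [Finite F] [AddCommGroup V] [Module F V] {Q : QuadraticForm F V}

omit [Finite F] in
/-- isometries `c` trivial on `[V, x]` commute with `x` -/
theorem comm_of_triv (hQ : Nondeg Q) {x c : V ≃ₗ[F] V} (hx : x ∈ O Q) (hc : c ∈ O Q)
    (h : ∀ v, c (x v - v) = x v - v) : c * x = x * c := by
  ext v
  rw [LinearEquiv.mul_apply, LinearEquiv.mul_apply]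
  have h2 : c (x v) = c v + (x v - v) := by
    rw [← h v, map_sub]
    abel
  have h4 : ∀ b, polar Q (c v - v) (x b - b) = 0 := by
    intro b
    rw [polar_sub_left, sub_eq_zero]
    conv_lhs => rw [← h b]
    exact polar_map hc v _
  have h6 : x (c v - v) = c v - v := by
    rw [← sub_eq_zero]
    apply hQ
    intro b
    have h7 : b = x (x⁻¹ b) := (LinearEquiv.apply_symm_apply x b).symm
    rw [polar_sub_left, sub_eq_zero]
    conv_lhs => rw [h7, polar_map hx]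
    have h8 := h4 (x⁻¹ b)
    rw [← h7, polar_sub_right, sub_eq_zero] at h8
    exact h8.symm
  rw [map_sub, sub_eq_sub_iff_add_eq_add] at h6
  rw [h2, ← add_sub_assoc, ← h6, add_sub_cancel_right]

/-- **the criterion for orthogonal groups** -/
theorem even_core (hG : Good Q) {p : ℕ} [hp : Fact p.Prime] (hp2 : p ≠ 2) (hpF : (p : F) ≠ 0) {M : Ideal AlgInt}
    (hM : IsPModular p M) (N : Subgroup ↥(E Q)) [N.Normal] (hN : ¬ p ∣ Nat.card N) {x y : V ≃ₗ[F] V}
    (hx : x ∈ O Q) (hxp : x ^ p = 1) (hx1 : x ≠ 1) (hy : y ∈ O Q) (hyp : y ^ p = 1) (hy1 : y ≠ 1)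
    (hyx : ∀ v, y (x v - v) = x v - v)
    (hfus : ∀ g ∈ O Q, ∀ i : ℕ, g * x * g⁻¹ = x ^ i → ∃ c ∈ O Q, (∀ v, c (x v - v) = x v - v) ∧ c * y * c⁻¹ = y ^ i)
    (hcyc : ∀ R : Subgroup (V ≃ₗ[F] V), R ≤ O Q → IsPGroup p R → (∀ g ∈ R, ∀ v, g (x v - v) = x v - v) → IsCyclic R)
    {U : Submodule F V} (hUx : ∀ u ∈ U, x u = u) (hUy : ∀ u ∈ U, y u = u) (hU : ∀ c : F, c ≠ 0 → ∃ u ∈ U, Q u = c) :
    p ≤ Nat.card (principalBlock M (↥(E Q) ⧸ N)) := by
  have : FiniteDimensional F V := Module.finite_of_finrank_pos (by have := hG.dim; omega)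
  have hVf : Finite V := Module.finite_of_finite F
  have hLf : Finite (V ≃ₗ[F] V) := Finite.of_injective (fun g : V ≃ₗ[F] V => (g : V → V)) DFunLike.coe_injective
  have hodd := hp.out.odd_of_ne_two hp2
  have hxE : x ∈ E Q := mem_E_of_pow hG hx hodd hxp
  have hyE : y ∈ E Q := mem_E_of_pow hG hy hodd hyp
  let z : ↥(E Q) := ⟨x, hxE⟩
  let u : ↥(E Q) := ⟨y, hyE⟩
  have hz : orderOf z = p := orderOf_eq_prime (Subtype.ext hxp) fun h => hx1 (congrArg Subtype.val h)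
  have huz : u * z = z * u := Subtype.ext (comm_of_triv hG.nondeg hx hy hyx)
  let u' : ↥(centralizer ({z} : Set ↥(E Q))) := ⟨u, mem_centralizer_singleton_iff.2 huz⟩
  let f := splitH hpF z hxp
  have hfu : f u' = y := splitH_eq hpF z hxp u' hyx
  refine Cfsg.Agent.H734.KB.crit_exp_quot hM N hN hz f.rangeRestrict (fun R hR => ?_) (u := ⟨f u', ⟨u', rfl⟩⟩)
    ⟨u', rfl⟩ ?_ fun i hi => ?_
  · -- cyclic
    have h1 : IsCyclic (R.map f.range.subtype) := by
      refine hcyc _ ?_ (hR.map _) ?_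
      · rintro _ ⟨⟨_, g, rfl⟩, -, rfl⟩
        exact splitH_mem_O hpF E_le_O z hxp g
      · rintro _ ⟨⟨_, g, rfl⟩, -, rfl⟩ v
        exact splitH_sub hpF z hxp g v
    exact isCyclic_of_injective ((R.equivMapOfInjective _ f.range.subtype_injective).toMonoidHom) (MulEquiv.injective _)
  · refine orderOf_eq_prime ?_ ?_
    · apply Subtype.ext
      change (f u') ^ p = 1
      rw [hfu, hyp]
    · intro h
      apply hy1
      rw [← hfu]
      exact congrArg Subtype.val h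
  · obtain ⟨g, hg⟩ := isConj_iff.1 hi
    have hg' : (g : V ≃ₗ[F] V) * x * (g : V ≃ₗ[F] V)⁻¹ = x ^ i := congrArg Subtype.val hg
    obtain ⟨c, hc, hcx, hcy⟩ := hfus _ (E_le_O g.2) i hg'
    obtain ⟨s, hs, hsc⟩ := exists_supp hG hU hc
    have hsx : s * x = x * s := comm_of_supp hG.nondeg hs hx hUx
    have hsy : s * y = y * s := comm_of_supp hG.nondeg hs hy hUy
    have hcx' : c * x = x * c := comm_of_triv hG.nondeg hx hc hcx
    -- `s` is trivial on `[V, x]`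
    have hsx' : ∀ v, s (x v - v) = x v - v := by
      intro v
      refine hs.2 _ fun w hw => ?_
      rw [polar_sub_right, sub_eq_zero]
      conv_lhs => rw [← hUx w hw]
      exact polar_map hx w v
    let t : ↥(E Q) := ⟨s * c, hsc⟩
    have htz : t * z = z * t := by
      apply Subtype.ext
      change s * c * x = x * (s * c)
      rw [mul_assoc, hcx', ← mul_assoc, hsx, mul_assoc]
    let t' : ↥(centralizer ({z} : Set ↥(E Q))) := ⟨t, mem_centralizer_singleton_iff.2 htz⟩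
    have hft : f t' = s * c := by
      refine splitH_eq hpF z hxp t' fun v => ?_
      change s (c (x v - v)) = x v - v
      rw [hcx, hsx']
    refine ⟨⟨f t', ⟨t', rfl⟩⟩, ⟨t', rfl⟩, ?_⟩
    apply Subtype.ext
    change f t' * f u' * (f t')⁻¹ = (f u') ^ i
    rw [hft, hfu]
    have h1 : s * c * y * (s * c)⁻¹ = s * (c * y * c⁻¹) * s⁻¹ := by group
    rw [h1, hcy]
    have h2 : Commute s (y ^ i) := (show Commute s y from hsy).pow_right i
    rw [h2.eq, mul_assoc, mul_inv_cancel, mul_one]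

end core

end Cfsg.Agent.H875.KB
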