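import Cfsg.Agent.H875.KB.Even
import Cfsg.Agent.S4646

/-!
# The criterion `p + 3 ≤ 2 k(B₀)` for orthogonal groups (S4822, helper875)

* `two_le_rank_perfect` : `l(B₀(G)) ≥ 2` for a perfect group of order divisible by `p`;
* `card_le_two_mul` : if `z ~ zⁱ` implies `u ~ u^(i²)` then `#{w ∈ ⟨z⟩ | w ~ z} ≤ 2 #{w ∈ ⟨u⟩ | w ~ u}`;
* `half_core` : as `even_core`, without the space `U`: `p + 3 ≤ 2 k(B₀(E(Q)/N))`.
-/

set_option autoImplicit false

open QuadraticMap Module Cfsg Cfsg.Agent.Blocks.Basic Cfsg.Agent.Blocks.Local Subgroup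
open Cfsg.Agent.LieClassical.OrthCore Cfsg.Agent.LieClassical.OrthTrans

namespace Cfsg.Agent.H875.KB

universe u v

/-- perfect groups -/
theorem two_le_rank_perfect {G : Type u} [Group G] [Finite G] {p : ℕ} [hp : Fact p.Prime] {M : Ideal AlgInt}
    (hM : IsPModular p M) (hperf : commutator G = ⊤) (hpG : p ∣ Nat.card G) :
    2 ≤ blockRank p (principalBlock M G) := by
  by_contra hlt
  have h1 := Cfsg.Agent.H634.Cols.blockRank_pos (G := G) (p := p) hM
  have : Fintype G := Fintype.ofFinite G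
  obtain ⟨P, N, hN, hNP⟩ := Cfsg.Agent.S4646.compl_of_rank_one (G := G) hM (by omega)
  have hidx : N.index = Nat.card (P : Subgroup G) := by
    rw [← hNP.symm.index_eq_card]
  obtain ⟨k, hk⟩ := IsPGroup.iff_card.1 P.2
  have hq : IsPGroup p (G ⧸ N) := IsPGroup.of_card (n := k) (by rw [← Subgroup.index_eq_card, hidx, hk])
  have hnil : Group.IsNilpotent (G ⧸ N) := hq.isNilpotent
  have hsol : Group.IsSolvable (G ⧸ N) := inferInstance
  have hperf' : commutator (G ⧸ N) = ⊤ := by
    have h2 : (commutator G).map (QuotientGroup.mk' N) = commutator (G ⧸ N) := by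
      rw [_root_.commutator_def, _root_.commutator_def, Subgroup.map_commutator, ← MonoidHom.range_eq_map,
        MonoidHom.range_eq_top.2 (QuotientGroup.mk'_surjective N)]
    rw [← h2, hperf, ← MonoidHom.range_eq_map, MonoidHom.range_eq_top.2 (QuotientGroup.mk'_surjective N)]
  have hsub : Subsingleton (G ⧸ N) := by
    obtain ⟨n, hn⟩ := hsol.solvable
    have h3 : ∀ n, derivedSeries (G ⧸ N) n = ⊤ := by
      intro n
      induction n with
      | zero => rfl
      | succ n ih => rw [derivedSeries_succ, ih, ← _root_.commutator_def]; exact hperf'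
    rw [h3] at hn
    exact Subgroup.subsingleton_iff.1 ⟨fun a b => by
      have h4 : ∀ a : Subgroup (G ⧸ N), a = ⊥ := fun a => by rw [eq_bot_iff, ← hn]; exact le_top
      rw [h4 a, h4 b]⟩
  have h5 : Nat.card (P : Subgroup G) = 1 := by
    rw [← hidx, Subgroup.index_eq_card]
    exact Nat.card_eq_one_iff_unique.2 ⟨hsub, ⟨1⟩⟩
  have h6 := P.dvd_card_of_dvd_card hpG
  rw [h5] at h6
  exact hp.out.one_lt.ne' (Nat.dvd_one.1 h6)

/-- squares of the exponents -/
theorem card_le_two_mul {G : Type u} [Group G] [Finite G] {Q : Type v} [Group Q] [Finite Q] {p : ℕ} [hp : Fact p.Prime]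
    (hp2 : p ≠ 2) {z : G} {u : Q} (hz : orderOf z = p) (hu : orderOf u = p)
    (h : ∀ i : ℕ, IsConj z (z ^ i) → IsConj u (u ^ (i * i))) :
    Nat.card {w : G // w ∈ zpowers z ∧ IsConj z w} ≤ 2 * Nat.card {w : Q // w ∈ zpowers u ∧ IsConj u w} := by
  classical
  have hex : ∀ w : {w : G // w ∈ zpowers z ∧ IsConj z w}, ∃ i : ℕ, i < p ∧ z ^ i = w.1 := by
    intro w
    have h1 := mem_zpowers_iff_mem_range_orderOf.1 w.2.1
    obtain ⟨i, hi, hi2⟩ := Finset.mem_image.1 h1
    rw [hz, Finset.mem_range] at hi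
    exact ⟨i, hi, hi2⟩
  choose i hi hiw using hex
  have h2 : 2 * Nat.card {w : Q // w ∈ zpowers u ∧ IsConj u w} =
      Nat.card (Bool × {w : Q // w ∈ zpowers u ∧ IsConj u w}) := by
    rw [Nat.card_prod, Nat.card_eq_fintype_card (α := Bool), Fintype.card_bool]
  rw [h2]
  refine Nat.card_le_card_of_injective (fun w => (decide (i w ≤ p / 2),
    (⟨u ^ (i w * i w), npow_mem_zpowers u _, h _ (by rw [hiw]; exact w.2.2)⟩ :
    {w : Q // w ∈ zpowers u ∧ IsConj u w}))) ?_
  intro a b hab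
  have h3 : decide (i a ≤ p / 2) = decide (i b ≤ p / 2) := congrArg Prod.fst hab
  have h4 : u ^ (i a * i a) = u ^ (i b * i b) :=
    congrArg (fun y : Bool × {w : Q // w ∈ zpowers u ∧ IsConj u w} => (y.2).1) hab
  rw [decide_eq_decide] at h3
  have h5 : (i a * i a) % p = (i b * i b) % p := by
    have := pow_inj_mod.1 h4
    rwa [hu] at this
  have h6 : (((i a * i a : ℕ) : ℤ) : ZMod p) = (((i b * i b : ℕ) : ℤ) : ZMod p) := by
    have : ((i a * i a : ℕ) : ZMod p) = ((i b * i b : ℕ) : ZMod p) := (ZMod.natCast_eq_natCast_iff' _ _ _).2 h5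
    exact_mod_cast this
  have h7 : ((i a : ZMod p) - i b) * ((i a : ZMod p) + i b) = 0 := by
    push_cast at h6
    linear_combination h6
  have h8 : i a = i b := by
    have ha := hi a
    have hb := hi b
    rcases mul_eq_zero.1 h7 with h | h
    · have h9 : ((i a : ℕ) : ZMod p) = ((i b : ℕ) : ZMod p) := sub_eq_zero.1 h
      have h10 := (ZMod.natCast_eq_natCast_iff' _ _ _).1 h9
      rwa [Nat.mod_eq_of_lt ha, Nat.mod_eq_of_lt hb] at h10
    · have h9 : ((i a + i b : ℕ) : ZMod p) = 0 := by push_cast; exact h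
      rw [ZMod.natCast_eq_zero_iff] at h9
      obtain ⟨c, hc⟩ := h9
      have hodd := hp.out.odd_of_ne_two hp2
      obtain ⟨l, hl⟩ := hodd
      have hc2 : c < 2 := by
        by_contra hcon
        have : p * 2 ≤ p * c := Nat.mul_le_mul_left p (by omega)
        omega
      have hc3 : c = 0 ∨ c = 1 := by omega
      rcases hc3 with rfl | rfl
      · omega
      · have : p / 2 = l := by omega
        omega
  exact Subtype.ext (by rw [← hiw a, ← hiw b, h8])

variable {F V : Type*} [Field F] [Finite F] [AddCommGroup V] [Module F V] {Q : QuadraticForm F V}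

/-- **the weak criterion for orthogonal groups** -/
theorem half_core (hG : Good Q) {p : ℕ} [hp : Fact p.Prime] (hp2 : p ≠ 2) (hpF : (p : F) ≠ 0) {M : Ideal AlgInt}
    (hM : IsPModular p M) (N : Subgroup ↥(E Q)) [N.Normal] (hN : ¬ p ∣ Nat.card N) {x y : V ≃ₗ[F] V}
    (hx : x ∈ O Q) (hxp : x ^ p = 1) (hx1 : x ≠ 1) (hy : y ∈ O Q) (hyp : y ^ p = 1) (hy1 : y ≠ 1)
    (hyx : ∀ v, y (x v - v) = x v - v)
    (hfus : ∀ g ∈ O Q, ∀ i : ℕ, g * x * g⁻¹ = x ^ i → ∃ c ∈ O Q, (∀ v, c (x v - v) = x v - v) ∧ c * y * c⁻¹ = y ^ i)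
    (hcyc : ∀ R : Subgroup (V ≃ₗ[F] V), R ≤ O Q → IsPGroup p R → (∀ g ∈ R, ∀ v, g (x v - v) = x v - v) → IsCyclic R) :
    p + 3 ≤ 2 * Nat.card (principalBlock M (↥(E Q) ⧸ N)) := by
  have : FiniteDimensional F V := Module.finite_of_finrank_pos (by have := hG.dim; omega)
  have hVf : Finite V := Module.finite_of_finite F
  have hLf : Finite (V ≃ₗ[F] V) := Finite.of_injective (fun g : V ≃ₗ[F] V => (g : V → V)) DFunLike.coe_injective
  have hodd := hp.out.odd_of_ne_two hp2
  have hxE : x ∈ E Q := mem_E_of_pow hG hx hodd hxp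
  have hyE : y ∈ E Q := mem_E_of_pow hG hy hodd hyp
  let z : ↥(E Q) := ⟨x, hxE⟩
  let u : ↥(E Q) := ⟨y, hyE⟩
  have hz : orderOf z = p := orderOf_eq_prime (Subtype.ext hxp) fun h => hx1 (congrArg Subtype.val h)
  have huz : u * z = z * u := Subtype.ext (comm_of_triv hG.nondeg hx hy hyx)
  let u' : ↥(centralizer ({z} : Set ↥(E Q))) := ⟨u, mem_centralizer_singleton_iff.2 huz⟩
  let f := splitH hpF z hxp
  have hfu : f u' = y := splitH_eq hpF z hxp u' hyx
  let w : f.range := ⟨f u', ⟨u', rfl⟩⟩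
  have hw : orderOf w = p := by
    refine orderOf_eq_prime ?_ ?_
    · apply Subtype.ext
      change (f u') ^ p = 1
      rw [hfu, hyp]
    · intro h
      apply hy1
      rw [← hfu]
      exact congrArg Subtype.val h
  -- the Sylow subgroup
  have hpg : IsPGroup p (zpowers w) := IsPGroup.of_card (n := 1) (by rw [Nat.card_zpowers, hw, pow_one])
  obtain ⟨P, hP⟩ := hpg.exists_le_sylow
  have hPc : IsCyclic P := by
    have h1 : IsCyclic ((P : Subgroup f.range).map f.range.subtype) := by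
      refine hcyc _ ?_ (P.2.map _) ?_
      · rintro _ ⟨⟨_, g, rfl⟩, -, rfl⟩
        exact splitH_mem_O hpF E_le_O z hxp g
      · rintro _ ⟨⟨_, g, rfl⟩, -, rfl⟩ v
        exact splitH_sub hpF z hxp g v
    exact isCyclic_of_injective (((P : Subgroup f.range).equivMapOfInjective _ f.range.subtype_injective).toMonoidHom)
      (MulEquiv.injective _)
  have hcom : IsMulCommutative (P : Subgroup f.range) := ⟨⟨IsCyclic.commGroup.mul_comm⟩⟩
  -- the fusion
  have h1 : ∀ i : ℕ, IsConj z (z ^ i) → IsConj w (w ^ (i * i)) := by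
    intro i hi
    obtain ⟨g, hg⟩ := isConj_iff.1 hi
    have hg' : (g : V ≃ₗ[F] V) * x * (g : V ≃ₗ[F] V)⁻¹ = x ^ i := congrArg Subtype.val hg
    obtain ⟨c, hc, hcx, hcy⟩ := hfus _ (E_le_O g.2) i hg'
    have hcx' : c * x = x * c := comm_of_triv hG.nondeg hx hc hcx
    let t : ↥(E Q) := ⟨c * c, sq_mem_E hG hc⟩
    have htz : t * z = z * t := by
      apply Subtype.ext
      change c * c * x = x * (c * c)
      rw [mul_assoc, hcx', ← mul_assoc, hcx', mul_assoc]
    let t' : ↥(centralizer ({z} : Set ↥(E Q))) := ⟨t, mem_centralizer_singleton_iff.2 htz⟩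
    have hft : f t' = c * c := by
      refine splitH_eq hpF z hxp t' fun v => ?_
      change c (c (x v - v)) = x v - v
      rw [hcx, hcx]
    refine isConj_iff.2 ⟨⟨f t', ⟨t', rfl⟩⟩, ?_⟩
    apply Subtype.ext
    change f t' * f u' * (f t')⁻¹ = (f u') ^ (i * i)
    rw [hft, hfu]
    have h1 : c * c * y * (c * c)⁻¹ = c * (c * y * c⁻¹) * c⁻¹ := by group
    rw [h1, hcy, ← conj_pow, hcy, ← pow_mul]
  have h2 := (Cfsg.Agent.H734.KB.relIndex_le_card z).trans ((card_le_two_mul hp2 hz hw h1).trans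
    (Nat.mul_le_mul_left 2 (Cfsg.Agent.H734.KB.card_le_relIndex P (hP (mem_zpowers w)))))
  have hdvd : p ∣ Nat.card f.range := by rw [← hw]; exact orderOf_dvd_natCard w
  rw [← Cfsg.Agent.H734.KB.rank_cyclic hM P hPc hdvd] at h2
  have h3 := Cfsg.Agent.H734.KB.rank_surj hM f.rangeRestrict f.rangeRestrict_surjective
  obtain ⟨s, hs1, hs2⟩ := Cfsg.Agent.H734.KB.col hM hz
  have h4 : 2 ≤ blockRank p (principalBlock M ↥(E Q)) := by
    refine two_le_rank_perfect hM ?_ (by rw [← hz]; exact orderOf_dvd_natCard z)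
    have h5 := hG.E_perfect
    rw [_root_.commutator_def]
    apply Subgroup.map_injective (E Q).subtype_injective
    rw [Subgroup.map_commutator, ← MonoidHom.range_eq_map, Subgroup.range_subtype, h5]
  rw [Cfsg.Agent.H634.Quot.card_quot hM N hN]
  have h5 : (centralizer ({z} : Set ↥(E Q))).relIndex (normalizer ((zpowers z : Subgroup ↥(E Q)) : Set ↥(E Q))) * s ≤
      2 * (s * blockRank p (principalBlock M ↥(centralizer ({z} : Set ↥(E Q))))) := by
    calc _ ≤ (2 * blockRank p (principalBlock M ↥(centralizer ({z} : Set ↥(E Q))))) * s :=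
          Nat.mul_le_mul_right s (h2.trans (Nat.mul_le_mul_left 2 h3))
      _ = _ := by ring
  have hp1 := hp.out.one_lt
  omega

end Cfsg.Agent.H875.KB
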