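import Cfsg.Agent.H875.KB.Half
import Cfsg.Agent.LieClassical.OrthForms

/-!
# `p ≤ k(B₀)` for `Ω⁺_{2m}(q)`, `p ∣ q - 1` (S4822, helper875)

Two lines of elements of order `p` in the split torus: `(ω, 1, 1, ...)` and `(ω, ω, 1, ...)`.
-/

set_option autoImplicit false

open QuadraticMap Module Cfsg Cfsg.Agent.Blocks.Basic Cfsg.Agent.Blocks.Local Subgroup
open Cfsg.Agent.LieClassical.OrthCore Cfsg.Agent.LieClassical.OrthTrans Cfsg.Agent.LieClassical.OrthForms

namespace Cfsg.Agent.H875.KB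

variable {F : Type*} [Field F] {m : ℕ}

/-- the entries of a torus element -/
def ent (s : Fin m → Fˣ) : Fin m ⊕ Fin m → Fˣ := Sum.elim s (fun i => (s i)⁻¹)

theorem ent_mul (s t : Fin m → Fˣ) (j : Fin m ⊕ Fin m) : ent (s * t) j = ent s j * ent t j := by
  rcases j with j | j
  · rfl
  · exact mul_inv _ _

theorem ent_one (j : Fin m ⊕ Fin m) : ent (1 : Fin m → Fˣ) j = 1 := by
  rcases j with j | j
  · rfl
  · exact inv_one

/-- the split torus -/
def dg (m : ℕ) (F : Type*) [Field F] : (Fin m → Fˣ) →* ((Fin m ⊕ Fin m → F) ≃ₗ[F] (Fin m ⊕ Fin m → F)) where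
  toFun s :=
    { toFun := fun v j => (ent s j : F) * v j
      invFun := fun v j => ((ent s j)⁻¹ : Fˣ) * v j
      map_add' := fun v w => by
        funext j
        exact mul_add _ _ _
      map_smul' := fun c v => by
        funext j
        exact mul_left_comm _ _ _
      left_inv := fun v => by
        funext j
        exact Units.inv_mul_cancel_left _ _
      right_inv := fun v => by
        funext j
        exact Units.mul_inv_cancel_left _ _ }
  map_one' := by
    ext v j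
    change ((ent 1 j : Fˣ) : F) * _ = _
    rw [ent_one, Units.val_one, one_mul]
    rfl
  map_mul' s t := by
    refine LinearEquiv.ext fun v => ?_
    funext j
    change ((ent (s * t) j : Fˣ) : F) * v j = (ent s j : F) * ((ent t j : F) * v j)
    rw [ent_mul, Units.val_mul, mul_assoc]

theorem dg_apply (s : Fin m → Fˣ) (v : Fin m ⊕ Fin m → F) (j : Fin m ⊕ Fin m) : dg m F s v j = (ent s j : F) * v j := rfl

theorem dg_mem (s : Fin m → Fˣ) : dg m F s ∈ O (plusForm m F) := by
  intro v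
  rw [coe_plusForm, quadFormPlus_apply, quadFormPlus_apply]
  refine Finset.sum_congr rfl fun i _ => ?_
  rw [dg_apply, dg_apply]
  change ((s i : Fˣ) : F) * v (Sum.inl i) * (((s i)⁻¹ : Fˣ) * v (Sum.inr i)) = _
  rw [mul_mul_mul_comm, Units.mul_inv, one_mul]

theorem dg_injective : Function.Injective (dg m F) := by
  intro s t h
  funext i
  have h1 := congrFun (LinearEquiv.congr_fun h (fun _ => 1)) (Sum.inl i)
  rw [dg_apply, dg_apply, mul_one, mul_one] at h1
  exact Units.ext h1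

/-- the element with entries `ω` on `T` -/
def ind (ω : Fˣ) (T : Finset (Fin m)) : Fin m → Fˣ := fun i => if i ∈ T then ω else 1

theorem ind_pow (ω : Fˣ) (T : Finset (Fin m)) (k : ℕ) : ind ω T ^ k = ind (ω ^ k) T := by
  funext i
  rw [Pi.pow_apply, ind, ind]
  split_ifs
  · rfl
  · exact one_pow _

theorem orderOf_ind {ω : Fˣ} {p : ℕ} [hp : Fact p.Prime] (hω : orderOf ω = p) {T : Finset (Fin m)} {i : Fin m}
    (hi : i ∈ T) : orderOf (ind ω T) = p := by
  refine orderOf_eq_prime ?_ ?_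
  · rw [ind_pow, ← hω, pow_orderOf_eq_one]
    funext j
    rw [ind]
    split_ifs <;> rfl
  · intro h
    have h1 := congrFun h i
    rw [ind, if_pos hi, Pi.one_apply] at h1
    rw [h1, orderOf_one] at hω
    exact hp.out.one_lt.ne hω

/-- an eigenvalue `ω` of the power -/
theorem pow_of_eigen {ω : Fˣ} {T : Finset (Fin m)} {k : ℕ} (h1 : ω ≠ 1) {v : Fin m ⊕ Fin m → F} (hv : v ≠ 0)
    (h : dg m F (ind ω T ^ k) v = (ω : F) • v) : ω ^ k = ω ∨ (ω ^ k)⁻¹ = ω := by
  obtain ⟨j, hj⟩ : ∃ j, v j ≠ 0 := by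
    by_contra hno
    push Not at hno
    exact hv (funext hno)
  have h2 := congrFun h j
  rw [dg_apply, Pi.smul_apply, smul_eq_mul] at h2
  have h3 := Units.ext (mul_right_cancel₀ hj h2)
  rw [ind_pow] at h3
  rcases j with j | j
  · change (if j ∈ T then ω ^ k else 1) = ω at h3
    split_ifs at h3
    · exact Or.inl h3
    · exact absurd h3.symm h1
  · change (if j ∈ T then ω ^ k else 1)⁻¹ = ω at h3
    split_ifs at h3
    · exact Or.inr h3
    · rw [inv_one] at h3
      exact absurd h3.symm h1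

/-- unit vectors are eigenvectors -/
theorem dg_single (s : Fin m → Fˣ) (j : Fin m ⊕ Fin m) :
    dg m F s (Pi.single j 1) = (ent s j : F) • (Pi.single j 1 : Fin m ⊕ Fin m → F) := by
  funext i
  rw [dg_apply, Pi.smul_apply, smul_eq_mul]
  by_cases h : i = j
  · subst h; rfl
  · rw [Pi.single_eq_of_ne h, mul_zero, mul_zero]

/-- the eigenvectors of `(ω, 1, 1, ...)` -/
theorem eigen_one {ω : Fˣ} (h1 : ω ≠ 1) (h2 : ω⁻¹ ≠ ω) {i : Fin m} {v : Fin m ⊕ Fin m → F}
    (h : dg m F (ind ω {i}) v = (ω : F) • v) : v = Pi.single (Sum.inl i) (v (Sum.inl i)) := by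
  funext j
  by_cases hj : j = Sum.inl i
  · subst hj
    rw [Pi.single_eq_same]
  rw [Pi.single_eq_of_ne hj]
  by_contra hv
  have h3 := congrFun h j
  rw [dg_apply, Pi.smul_apply, smul_eq_mul] at h3
  have h4 := Units.ext (mul_right_cancel₀ hv h3)
  rcases j with j | j
  · change (if j ∈ ({i} : Finset (Fin m)) then ω else 1) = ω at h4
    rw [if_neg (by rw [Finset.mem_singleton]; rintro rfl; exact hj rfl)] at h4
    exact h1 h4.symm
  · change (if j ∈ ({i} : Finset (Fin m)) then ω else 1)⁻¹ = ω at h4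
    split_ifs at h4
    · exact h2 h4
    · rw [inv_one] at h4
      exact h1 h4.symm

theorem conj_eigen {V : Type*} [AddCommGroup V] [Module F V] {g a b : V ≃ₗ[F] V} (h : g * a * g⁻¹ = b) {c : F} {v : V}
    (hv : a v = c • v) : b (g v) = c • g v := by
  rw [← h, LinearEquiv.mul_apply, LinearEquiv.mul_apply]
  have : g⁻¹ (g v) = v := g.symm_apply_apply v
  rw [this, hv, map_smul]

variable [Finite F]

/-- **`p ∣ q - 1`** -/
theorem split_le (hm : 3 ≤ m) {p : ℕ} [hp : Fact p.Prime] (hp2 : p ≠ 2) (hpq : p ∣ Nat.card F - 1) {M : Ideal AlgInt}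
    (hM : IsPModular p M) (N : Subgroup ↥(E (plusForm m F))) [N.Normal] (hN : ¬ p ∣ Nat.card N) :
    p ≤ Nat.card (principalBlock M (↥(E (plusForm m F)) ⧸ N)) := by
  classical
  have hG : Good (plusForm m F) := by
    refine Cfsg.Agent.LieClassical.OrthFinite.good_of_finite (nondeg_plusForm m F) ?_
    rw [Module.finrank_fintype_fun_eq_card, Fintype.card_sum, Fintype.card_fin]
    omega
  have hLf : Finite ((Fin m ⊕ Fin m → F) ≃ₗ[F] (Fin m ⊕ Fin m → F)) :=
    Finite.of_injective (fun g : (Fin m ⊕ Fin m → F) ≃ₗ[F] (Fin m ⊕ Fin m → F) => (g : _ → _)) DFunLike.coe_injective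
  obtain ⟨ω, hω⟩ : ∃ ω : Fˣ, orderOf ω = p := by
    rw [← Nat.card_units] at hpq
    exact exists_prime_orderOf_dvd_card' p hpq
  have hωp : ω ^ p = 1 := by rw [← hω, pow_orderOf_eq_one]
  have hω1 : ω ≠ 1 := by
    rintro rfl
    rw [orderOf_one] at hω
    exact hp.out.one_lt.ne hω
  have hω2 : ω⁻¹ ≠ ω := by
    intro h
    have h1 : ω ^ 2 = 1 := by
      rw [pow_two]
      nth_rewrite 1 [← h]
      exact inv_mul_cancel ω
    have h2 : p ∣ 2 := by rw [← hω]; exact orderOf_dvd_of_pow_eq_one h1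
    exact hp2 ((Nat.prime_dvd_prime_iff_eq hp.out Nat.prime_two).1 h2)
  let i0 : Fin m := ⟨0, by omega⟩
  let i1 : Fin m := ⟨1, by omega⟩
  have h01 : i0 ≠ i1 := by
    intro h
    exact absurd (congrArg Fin.val h) (by norm_num)
  let T1 : Finset (Fin m) := {i0}
  let T2 : Finset (Fin m) := {i0, i1}
  have hodd := hp.out.odd_of_ne_two hp2
  have hmem : ∀ T : Finset (Fin m), dg m F (ind ω T) ∈ E (plusForm m F) := fun T => by
    refine mem_E_of_pow hG (dg_mem _) hodd ?_
    rw [← map_pow, ind_pow, hωp]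
    have : ind (1 : Fˣ) T = 1 := by
      funext i
      rw [ind]
      split_ifs <;> rfl
    rw [this, map_one]
  let z : Finset (Fin m) → ↥(E (plusForm m F)) := fun T => ⟨dg m F (ind ω T), hmem T⟩
  have hzo : ∀ T, i0 ∈ T → orderOf (z T) = p := fun T hT => by
    rw [Subgroup.orderOf_mk, orderOf_injective (dg m F) dg_injective, orderOf_ind hω hT]
  have hzpow : ∀ (T : Finset (Fin m)) (k : ℕ), ((z T ^ k : ↥(E (plusForm m F))) : (Fin m ⊕ Fin m → F) ≃ₗ[F] (Fin m ⊕ Fin m → F)) =
      dg m F (ind ω T ^ k) := fun T k => by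
    rw [map_pow]
    rfl
  have he0 : ∀ T : Finset (Fin m), i0 ∈ T → dg m F (ind ω T) (Pi.single (Sum.inl i0) 1) =
      (ω : F) • (Pi.single (Sum.inl i0) 1 : Fin m ⊕ Fin m → F) := fun T hT => by
    rw [dg_single]
    change ((ind ω T i0 : Fˣ) : F) • _ = _
    rw [ind, if_pos hT]
  have hs0 : ∀ j, (Pi.single j 1 : Fin m ⊕ Fin m → F) ≠ 0 := fun j h => by
    have := congrFun h j
    rw [Pi.single_eq_same] at this
    exact one_ne_zero this
  -- the fusion
  have hfus : ∀ T T' : Finset (Fin m), i0 ∈ T → ∀ k : ℕ, IsConj (z T) (z T' ^ k) → ω ^ k = ω ∨ (ω ^ k)⁻¹ = ω := by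
    intro T T' hT k hk
    obtain ⟨g, hg⟩ := isConj_iff.1 hk
    have hg' : (g : (Fin m ⊕ Fin m → F) ≃ₗ[F] (Fin m ⊕ Fin m → F)) * dg m F (ind ω T) *
        (g : (Fin m ⊕ Fin m → F) ≃ₗ[F] (Fin m ⊕ Fin m → F))⁻¹ = dg m F (ind ω T' ^ k) := by
      rw [← hzpow, ← hg]
      rfl
    have h1 := conj_eigen hg' (he0 T hT)
    refine pow_of_eigen hω1 (fun h0 => hs0 (Sum.inl i0) ?_) h1
    exact (LinearEquiv.map_eq_zero_iff (g : (Fin m ⊕ Fin m → F) ≃ₗ[F] (Fin m ⊕ Fin m → F))).1 h0
  have hpowinj : ∀ (T : Finset (Fin m)), i0 ∈ T → ∀ k : ℕ, ω ^ k = ω ∨ (ω ^ k)⁻¹ = ω → z T ^ k = z T ∨ z T ^ k = (z T)⁻¹ := by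
    intro T hT k hk
    have h3 : ∀ k l : ℕ, ω ^ k = ω ^ l → z T ^ k = z T ^ l := fun k l h => by
      rw [pow_inj_mod, hω] at h
      rw [pow_inj_mod, hzo T hT]
      exact h
    rcases hk with hk | hk
    · left
      have := h3 k 1 (by rw [pow_one]; exact hk)
      rwa [pow_one] at this
    · right
      rw [eq_inv_iff_mul_eq_one, ← pow_succ]
      have := h3 (k + 1) 0 (by
        rw [pow_succ, pow_zero]
        have h4 : ω ^ k * (ω ^ k)⁻¹ = 1 := mul_inv_cancel _
        rwa [hk] at h4)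
      rw [pow_zero] at this
      exact this
  have hrel : ∀ T : Finset (Fin m), i0 ∈ T → (centralizer ({z T} : Set ↥(E (plusForm m F)))).relIndex
      (normalizer ((zpowers (z T) : Subgroup ↥(E (plusForm m F))) : Set ↥(E (plusForm m F)))) ≤ 2 := by
    intro T hT
    refine (Cfsg.Agent.H734.KB.relIndex_le_card (z T)).trans ?_
    have h1 : ∀ w : {w : ↥(E (plusForm m F)) // w ∈ zpowers (z T) ∧ IsConj (z T) w}, w.1 = z T ∨ w.1 = (z T)⁻¹ := by
      intro w
      obtain ⟨k, hk⟩ := (Submonoid.mem_powers_iff _ _).1 (mem_powers_iff_mem_zpowers.2 w.2.1)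
      rw [← hk]
      exact hpowinj T hT k (hfus T T hT k (by rw [hk]; exact w.2.2))
    calc Nat.card {w : ↥(E (plusForm m F)) // w ∈ zpowers (z T) ∧ IsConj (z T) w}
        ≤ Nat.card ↥({z T, (z T)⁻¹} : Finset ↥(E (plusForm m F))) := by
          refine Nat.card_le_card_of_injective (fun w => ⟨w.1, ?_⟩) (fun a b h => Subtype.ext (congrArg
            (fun y : ↥({z T, (z T)⁻¹} : Finset ↥(E (plusForm m F))) => y.1) h))
          rw [Finset.mem_insert, Finset.mem_singleton]
          exact h1 w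
      _ ≤ 2 := by
          rw [Nat.card_eq_fintype_card, Fintype.card_coe]
          exact Finset.card_le_two
  obtain ⟨s, t, hs, ht, hst⟩ := Cfsg.Agent.H734.KB.col_two hM (z := z T1) (w := z T2)
    (hzo T1 (Finset.mem_singleton_self _)) (hzo T2 (Finset.mem_insert_self _ _)) (fun g hg => by
      obtain ⟨k, hk⟩ := (Submonoid.mem_powers_iff _ _).1 (mem_powers_iff_mem_zpowers.2 hg)
      have hg' : (g : (Fin m ⊕ Fin m → F) ≃ₗ[F] (Fin m ⊕ Fin m → F)) * dg m F (ind ω T1) *
          (g : (Fin m ⊕ Fin m → F) ≃ₗ[F] (Fin m ⊕ Fin m → F))⁻¹ = dg m F (ind ω T2 ^ k) := by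
        rw [← hzpow, hk]
        rfl
      have hpm := hfus T1 T2 (Finset.mem_singleton_self _) k (isConj_iff.2 ⟨g, hk.symm⟩)
      -- two independent eigenvectors
      have key : ∀ j j' : Fin m ⊕ Fin m, j ≠ j' → ent (ind ω T2 ^ k) j = ω → ent (ind ω T2 ^ k) j' = ω → False := by
        intro j j' hjj hj hj'
        have hgi : (g : (Fin m ⊕ Fin m → F) ≃ₗ[F] (Fin m ⊕ Fin m → F))⁻¹ * dg m F (ind ω T2 ^ k) *
            ((g : (Fin m ⊕ Fin m → F) ≃ₗ[F] (Fin m ⊕ Fin m → F))⁻¹)⁻¹ = dg m F (ind ω T1) := by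
          rw [← hg']
          group
        have ha := eigen_one hω1 hω2 (conj_eigen hgi (c := (ω : F)) (v := Pi.single j 1) (by rw [dg_single, hj]))
        have hb := eigen_one hω1 hω2 (conj_eigen hgi (c := (ω : F)) (v := Pi.single j' 1) (by rw [dg_single, hj']))
        set G : (Fin m ⊕ Fin m → F) ≃ₗ[F] (Fin m ⊕ Fin m → F) := (g : (Fin m ⊕ Fin m → F) ≃ₗ[F] (Fin m ⊕ Fin m → F))⁻¹
          with hGdef
        set α := G (Pi.single j 1) (Sum.inl i0) with hα
        set β := G (Pi.single j' 1) (Sum.inl i0) with hβ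
        have hlin : G (β • (Pi.single j 1 : Fin m ⊕ Fin m → F) - α • (Pi.single j' 1 : Fin m ⊕ Fin m → F)) = 0 := by
          rw [map_sub, map_smul, map_smul, ha, hb]
          funext i
          rw [Pi.sub_apply, Pi.smul_apply, Pi.smul_apply, Pi.zero_apply, smul_eq_mul, smul_eq_mul]
          by_cases hi : i = Sum.inl i0
          · subst hi
            rw [Pi.single_eq_same, Pi.single_eq_same]
            ring
          · rw [Pi.single_eq_of_ne hi, Pi.single_eq_of_ne hi]
            ring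
        have h0 := (LinearEquiv.map_eq_zero_iff G).1 hlin
        have hβ0 : β = 0 := by
          have := congrFun h0 j
          rw [Pi.sub_apply, Pi.smul_apply, Pi.smul_apply, Pi.single_eq_same, Pi.single_eq_of_ne hjj] at this
          simpa using this
        rw [hβ0] at hb
        have h5 : G (Pi.single j' 1) = 0 := by
          rw [hb]
          exact Pi.single_zero _
        exact hs0 j' ((LinearEquiv.map_eq_zero_iff G).1 h5)
      have hT0 : i0 ∈ T2 := Finset.mem_insert_self _ _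
      have hT1 : i1 ∈ T2 := Finset.mem_insert_of_mem (Finset.mem_singleton_self _)
      rcases hpm with h | h
      · refine key (Sum.inl i0) (Sum.inl i1) (fun e => h01 (Sum.inl_injective e)) ?_ ?_
        · rw [ind_pow]
          change (if i0 ∈ T2 then ω ^ k else 1) = ω
          rw [if_pos hT0, h]
        · rw [ind_pow]
          change (if i1 ∈ T2 then ω ^ k else 1) = ω
          rw [if_pos hT1, h]
      · refine key (Sum.inr i0) (Sum.inr i1) (fun e => h01 (Sum.inr_injective e)) ?_ ?_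
        · rw [ind_pow]
          change (if i0 ∈ T2 then ω ^ k else 1)⁻¹ = ω
          rw [if_pos hT0, h]
        · rw [ind_pow]
          change (if i1 ∈ T2 then ω ^ k else 1)⁻¹ = ω
          rw [if_pos hT1, h])
  have h1 := hrel T1 (Finset.mem_singleton_self _)
  have h2 := hrel T2 (Finset.mem_insert_self _ _)
  have b0 := Cfsg.Agent.H634.Cols.blockRank_pos (G := ↥(E (plusForm m F))) (p := p) hM
  have b1 := Cfsg.Agent.H634.Cols.blockRank_pos (G := ↥(centralizer ({z T1} : Set ↥(E (plusForm m F))))) (p := p) hM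
  have b2 := Cfsg.Agent.H634.Cols.blockRank_pos (G := ↥(centralizer ({z T2} : Set ↥(E (plusForm m F))))) (p := p) hM
  have h3 : p - 1 ≤ 2 * s := hs.trans (Nat.mul_le_mul_right s h1)
  have h4 : p - 1 ≤ 2 * t := ht.trans (Nat.mul_le_mul_right t h2)
  have h5 : s * 1 ≤ _ := Nat.mul_le_mul_left s b1
  have h6 : t * 1 ≤ _ := Nat.mul_le_mul_left t b2
  rw [mul_one] at h5 h6
  rw [Cfsg.Agent.H634.Quot.card_quot hM N hN]
  omega

end Cfsg.Agent.H875.KB
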